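import Mathlib
import Cfsg.Agent.H616.TI.Defs

/-!
# S4821, task PP: the numerical criterion for small or cyclic Sylow subgroups (helper245)

`result : Cfsg.Agent.H616.TI.GoalPP`.
-/

set_option autoImplicit false
set_option linter.unusedSectionVars false

namespace Cfsg.Agent.H245.TI

open Subgroup Cfsg.Agent.H616.TI

universe u

section

variable {p : ℕ} [hp : Fact p.Prime] {R : Type u} [Group R] [Finite R]

/-- A `p'`-automorphism which multiplies `x` by a fixed point `n` fixes `x`. -/
theorem eq_one_of_fix_mul (hR : IsPGroup p R) (e : MulAut R) (he : ¬ p ∣ orderOf e) {x n : R}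
    (hn : e n = n) (hx : e x = x * n) : n = 1 := by
  have h : ∀ k : ℕ, (e ^ k) x = x * n ^ k := by
    intro k
    induction k with
    | zero => simp
    | succ k ih =>
      rw [pow_succ', MulAut.mul_apply, ih, map_mul, map_pow, hn, hx, pow_succ', mul_assoc]
  have h1 := h (orderOf e)
  rw [pow_orderOf_eq_one, MulAut.one_apply] at h1
  have h2 : n ^ orderOf e = 1 := by
    have := h1.symm
    rwa [mul_eq_left] at this
  obtain ⟨j, hj⟩ := (IsPGroup.iff_orderOf.mp hR) n
  have h3 : orderOf n ∣ orderOf e := orderOf_dvd_of_pow_eq_one h2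
  rcases Nat.eq_zero_or_pos j with h0 | h0
  · rw [h0, pow_zero] at hj
    exact orderOf_eq_one_iff.mp hj
  · exact absurd ((dvd_pow_self p h0.ne').trans (hj ▸ h3)) he

theorem not_dvd_orderOf {E : Subgroup (MulAut R)} (hE : ¬ p ∣ Nat.card E) {e : MulAut R}
    (he : e ∈ E) : ¬ p ∣ orderOf e := fun h =>
  hE (h.trans (by simpa using Subgroup.orderOf_dvd_natCard E he))

/-- The fixed points of an automorphism. -/
def fixed (e : MulAut R) : Subgroup R where
  carrier := {x | e x = x}
  one_mem' := map_one e
  mul_mem' := fun {a b} ha hb => by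
    show e (a * b) = a * b
    rw [map_mul, show e a = a from ha, show e b = b from hb]
  inv_mem' := fun {a} ha => by
    show e a⁻¹ = a⁻¹
    rw [map_inv, show e a = a from ha]

theorem mem_fixed {e : MulAut R} {x : R} : x ∈ fixed e ↔ e x = x := Iff.rfl

/-- The counting argument. -/
theorem count (hR : IsPGroup p R) {E : Subgroup (MulAut R)} (hE : ¬ p ∣ Nat.card E)
    (Z : Subgroup R) [Z.Normal] {z : R} (hZ : Z ≠ ⊤)
    (hfix : ∀ f : MulAut R, f z = z → ∀ y ∈ Z, f y = y)
    (hone : ∀ f ∈ E, f z = z → ∀ x, x ∉ Z → f x = x → f = 1)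
    {e : MulAut R} (he : e ∈ E) (hez : e z = z) (he1 : e ≠ 1) :
    (Nat.card {f : MulAut R // f ∈ E ∧ f z = z} + 1) * Nat.card {x : R // e x = x} ≤ Nat.card R := by
  classical
  obtain ⟨x, -, hx⟩ := SetLike.exists_of_lt (lt_top_iff_ne_top.mpr hZ)
  rw [Subgroup.card_eq_card_quotient_mul_card_subgroup Z]
  refine Nat.mul_le_mul ?_ ?_
  · rw [← Finite.card_option]
    refine Nat.card_le_card_of_injective
      (fun o : Option {f : MulAut R // f ∈ E ∧ f z = z} =>
        (match o with
          | none => (1 : R ⧸ Z)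
          | some f => ((f.1 x : R) : R ⧸ Z))) ?_
    have key : ∀ f : MulAut R, f z = z → ((f x : R) : R ⧸ Z) ≠ 1 := by
      intro f hf h
      rw [QuotientGroup.eq_one_iff] at h
      have h2 := hfix f hf _ h
      exact hx (f.injective h2 ▸ h)
    rintro (_ | ⟨f, hf, hfz⟩) (_ | ⟨g, hg, hgz⟩) h
    · rfl
    · exact absurd h.symm (key g hgz)
    · exact absurd h (key f hfz)
    · have h' : ((f x : R) : R ⧸ Z) = ((g x : R) : R ⧸ Z) := h
      rw [QuotientGroup.eq] at h'
      -- `(f x)⁻¹ * g x ∈ Z`
      set n := (f x)⁻¹ * g x with hn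
      have hfn : (f⁻¹ : MulAut R) z = z := by
        have := congrArg (f⁻¹ : MulAut R) hfz
        rw [MulAut.inv_apply_self] at this
        exact this.symm
      have hh : (f⁻¹ * g) x = x * n := by
        rw [MulAut.mul_apply]
        have : g x = f x * n := by rw [hn]; group
        rw [this, map_mul, MulAut.inv_apply_self, hfix _ hfn n h']
      have hhz : (f⁻¹ * g) z = z := by
        rw [MulAut.mul_apply, hgz, hfn]
      have hmem : f⁻¹ * g ∈ E := E.mul_mem (E.inv_mem hf) hg
      have hn1 : n = 1 := eq_one_of_fix_mul hR _ (not_dvd_orderOf hE hmem) (hfix _ hhz n h') hh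
      rw [hn1, mul_one] at hh
      have h1 := hone _ hmem hhz x hx hh
      have : g = f := by rw [← mul_one f, ← h1]; group
      subst this
      rfl
  · refine Nat.card_le_card_of_injective
      (fun y : {x : R // e x = x} => (⟨y.1, ?_⟩ : Z)) ?_
    · by_contra hy
      exact he1 (hone e he hez y.1 hy y.2)
    · rintro ⟨a, ha⟩ ⟨b, hb⟩ h
      simpa using h

/-- A `p'`-automorphism of a cyclic `p`-group with a nontrivial fixed point is trivial. -/
theorem cyclic_case (hR : IsPGroup p R) (hc : IsCyclic R) {e : MulAut R} (he : ¬ p ∣ orderOf e)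
    {z : R} (hz : z ≠ 1) (hez : e z = z) : e = 1 := by
  classical
  have := Fintype.ofFinite R
  have hp' := hp.out
  -- the fixed subgroup contains all elements of order `p`
  have hD : ∀ n : R, n ^ p = 1 → e n = n := by
    intro n hn
    by_contra hen
    obtain ⟨j, hj⟩ := (IsPGroup.iff_orderOf.mp hR) z
    have hj0 : j ≠ 0 := by
      rintro rfl
      rw [pow_zero, orderOf_eq_one_iff] at hj
      exact hz hj
    set w := z ^ p ^ (j - 1) with hw
    have how : orderOf w = p := by
      rw [hw, orderOf_pow_of_dvd (pow_ne_zero _ hp'.ne_zero)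
        (by rw [hj]; exact pow_dvd_pow p (by omega)), hj]
      rw [Nat.pow_div (by omega) hp'.pos]
      rw [show j - (j - 1) = 1 by omega, pow_one]
    have hew : e w = w := by rw [hw, map_pow, hez]
    have h1 : ∀ y ∈ zpowers w, y ^ p = 1 ∧ e y = y := by
      intro y hy
      obtain ⟨k, rfl⟩ := Subgroup.mem_zpowers_iff.mp hy
      refine ⟨?_, by rw [map_zpow, hew]⟩
      rw [← zpow_natCast, ← zpow_mul, mul_comm, zpow_mul, zpow_natCast, ← how,
        pow_orderOf_eq_one, one_zpow]
    have hle := IsCyclic.card_pow_eq_one_le (α := R) (n := p) hp'.pos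
    have hsub : insert n ((zpowers w : Set R).toFinset) ⊆
        (Finset.univ.filter fun a : R => a ^ p = 1) := by
      intro y hy
      rw [Finset.mem_insert] at hy
      rw [Finset.mem_filter]
      refine ⟨Finset.mem_univ _, ?_⟩
      rcases hy with rfl | hy
      · exact hn
      · exact (h1 y (by simpa using hy)).1
    have hn' : n ∉ (zpowers w : Set R).toFinset := by
      intro hmem
      exact hen (h1 n (by simpa using hmem)).2
    have hcard := Finset.card_le_card hsub
    rw [Finset.card_insert_of_notMem hn', Set.toFinset_card] at hcard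
    have h3 : Fintype.card (zpowers w : Set R) = p := by
      have := Nat.card_zpowers w
      rw [how, Nat.card_eq_fintype_card] at this
      exact this
    rw [h3] at hcard
    omega
  by_contra hne
  -- some element outside the fixed subgroup has its `p`-th power inside
  have hex : ∃ x : R, e x ≠ x ∧ e (x ^ p) = x ^ p := by
    have h1 : ∃ x : R, e x ≠ x := by
      by_contra hall
      push Not at hall
      exact hne (MulEquiv.ext fun x => by rw [hall x]; rfl)
    obtain ⟨x, hx⟩ := h1
    obtain ⟨k, hk⟩ := hR x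
    have hex2 : ∃ i : ℕ, e (x ^ p ^ i) = x ^ p ^ i := ⟨k, by rw [hk, map_one]⟩
    set i := Nat.find hex2 with hi
    have hi1 := Nat.find_spec hex2
    rw [← hi] at hi1
    have hi0 : i ≠ 0 := by
      intro h0
      rw [h0, pow_zero, pow_one] at hi1
      exact hx hi1
    refine ⟨x ^ p ^ (i - 1), ?_, ?_⟩
    · exact Nat.find_min hex2 (m := i - 1) (by omega)
    · rw [← pow_mul, ← pow_succ, show i - 1 + 1 = i by omega]
      exact hi1
  obtain ⟨x, hx, hxp⟩ := hex
  have hcomm : ∀ a b : R, a * b = b * a := fun a b => by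
    obtain ⟨g, hg⟩ := hc.exists_generator
    obtain ⟨k, rfl⟩ := Subgroup.mem_zpowers_iff.mp (hg a)
    obtain ⟨l, rfl⟩ := Subgroup.mem_zpowers_iff.mp (hg b)
    rw [← zpow_add, ← zpow_add, add_comm]
  have hn : (x⁻¹ * e x) ^ p = 1 := by
    have : Commute x⁻¹ (e x) := hcomm _ _
    rw [this.mul_pow, ← map_pow, hxp, inv_pow, inv_mul_cancel]
  have h4 := eq_one_of_fix_mul hR e he (x := x) (hD _ hn) (by group)
  exact hx (by rwa [inv_mul_eq_one, eq_comm] at h4)

/-- The powers of a fixed point are fixed. -/
theorem fix_zpowers {f : MulAut R} {z : R} (hf : f z = z) : ∀ y ∈ zpowers z, f y = y := by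
  intro y hy
  obtain ⟨k, rfl⟩ := Subgroup.mem_zpowers_iff.mp hy
  rw [map_zpow, hf]

/-- A subgroup of a group of order `p ^ m` which is not everything has order at most
`p ^ (m - 1)`. -/
theorem card_le_of_ne_top {m : ℕ} (hm : Nat.card R = p ^ m) (K : Subgroup R) (hK : K ≠ ⊤) :
    Nat.card K ∣ p ^ (m - 1) := by
  obtain ⟨j, hj, hK'⟩ := (Nat.dvd_prime_pow hp.out).mp (hm ▸ Subgroup.card_subgroup_dvd_card K)
  rw [hK']
  refine pow_dvd_pow p ?_
  rcases Nat.lt_or_ge j m with h | h
  · omega
  · exfalso
    apply hK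
    apply Subgroup.eq_top_of_card_eq
    rw [hK', hm, le_antisymm hj h]

/-- A subgroup properly containing a subgroup of order `p ^ i` has order divisible by
`p ^ (i + 1)`. -/
theorem dvd_card_of_lt {m i : ℕ} (hm : Nat.card R = p ^ m) (K L : Subgroup R) (hKL : K ≤ L)
    (hne : K ≠ L) (hK : Nat.card K = p ^ i) : p ^ (i + 1) ∣ Nat.card L := by
  obtain ⟨j, -, hL⟩ := (Nat.dvd_prime_pow hp.out).mp (hm ▸ Subgroup.card_subgroup_dvd_card L)
  rw [hL]
  refine pow_dvd_pow p ?_
  rcases Nat.lt_or_ge i j with h | h
  · omega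
  · exfalso
    apply hne
    apply Subgroup.eq_of_le_of_card_ge hKL
    rw [hK, hL]
    exact Nat.pow_le_pow_right hp.out.pos h

theorem sq_case (hR : IsPGroup p R) (hcard : Nat.card R = p ^ 2) (A : Subgroup (MulAut R)) :
    Good p R A := by
  intro E hE _ _ z hzc hz e he hez he1
  have hp' := hp.out
  by_cases hcyc : IsCyclic R
  · exact absurd (cyclic_case hR hcyc (not_dvd_orderOf hE he) hz hez) he1
  have hord : Nat.card (zpowers z) = p := by
    rw [Nat.card_zpowers]
    obtain ⟨j, hj, hj'⟩ := (Nat.dvd_prime_pow hp').mp (hcard ▸ orderOf_dvd_natCard z)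
    have h0 : j ≠ 0 := by
      rintro rfl
      rw [pow_zero, orderOf_eq_one_iff] at hj'
      exact hz hj'
    have h2 : j ≠ 2 := by
      rintro rfl
      exact hcyc (isCyclic_of_orderOf_eq_card z (by rw [hj', hcard]))
    rw [hj', show j = 1 by omega, pow_one]
  have hn : (zpowers z).Normal := by
    refine ⟨fun y hy g => ?_⟩
    have hyc : y ∈ center R := (zpowers_le.mpr hzc) hy
    rw [(mem_center_iff.mp hyc g), mul_inv_cancel_right]
    exact hy
  refine count hR hE (zpowers z) (z := z) ?_ (fun f hf => fix_zpowers hf) ?_ he hez he1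
  · intro h
    rw [h, Subgroup.card_top, hcard] at hord
    have h2 : p ^ 2 = p ^ 1 := by rw [hord, pow_one]
    have := Nat.pow_right_injective hp'.two_le h2
    omega
  · intro f _ hfz x hx hfx
    have hle : zpowers z ≤ fixed f := fun y hy => fix_zpowers hfz y hy
    have hne : zpowers z ≠ fixed f := by
      intro h
      apply hx
      rw [h]
      exact hfx
    have h1 := dvd_card_of_lt hcard _ _ hle hne (i := 1) (by rw [hord, pow_one])
    have h2 : fixed f = ⊤ := by
      apply Subgroup.eq_top_of_card_eq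
      exact Nat.dvd_antisymm (Subgroup.card_subgroup_dvd_card _) (hcard ▸ h1)
    ext y
    have : y ∈ fixed f := by rw [h2]; trivial
    exact this

theorem cube_case (hR : IsPGroup p R) (hcard : Nat.card R = p ^ 3) (hna : ¬ IsMulCommutative R)
    (A : Subgroup (MulAut R)) : Good p R A := by
  intro E hE _ _ z hzc hz e he hez he1
  have hp' := hp.out
  have hnt : Nontrivial R := by
    rw [← Finite.one_lt_card_iff_nontrivial, hcard]
    exact Nat.one_lt_pow (by norm_num) hp'.one_lt
  -- a quotient by a central subgroup is not cyclic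
  have hncyc : ¬ IsCyclic (R ⧸ center R) := by
    intro hc
    apply hna
    exact MonoidHom.isMulCommutative_of_isCyclic_of_ker_le_center
      (QuotientGroup.mk' (center R)) (by rw [QuotientGroup.ker_mk'])
  have hZc : Nat.card (center R) = p := by
    obtain ⟨j, hj, hj'⟩ := (Nat.dvd_prime_pow hp').mp
      (hcard ▸ Subgroup.card_subgroup_dvd_card (center R))
    have hlag := Subgroup.card_eq_card_quotient_mul_card_subgroup (center R)
    rw [hcard, hj'] at hlag
    have h0 : j ≠ 0 := by
      rintro rfl
      rw [pow_zero, Subgroup.card_eq_one] at hj'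
      rw [hj', mem_bot] at hzc
      exact hz hzc
    have h3 : j ≠ 3 := by
      rintro rfl
      have : Nat.card (R ⧸ center R) = 1 :=
        (Nat.eq_of_mul_eq_mul_right (pow_pos hp'.pos 3) (by rw [one_mul]; exact hlag)).symm
      have := (Nat.card_eq_one_iff_unique.mp this).1
      exact hncyc inferInstance
    have h2 : j ≠ 2 := by
      rintro rfl
      have : Nat.card (R ⧸ center R) = p :=
        (Nat.eq_of_mul_eq_mul_right (pow_pos hp'.pos 2) (by rw [← hlag]; ring))
      exact hncyc (isCyclic_of_prime_card this)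
    rw [hj', show j = 1 by omega, pow_one]
  have hzp : zpowers z = center R := by
    apply Subgroup.eq_of_le_of_card_ge
    · rw [zpowers_le]; exact hzc
    · rw [hZc, Nat.card_zpowers]
      have h1 : orderOf z ∣ p := by
        have := orderOf_dvd_natCard (⟨z, hzc⟩ : center R)
        rw [hZc] at this
        rwa [← Subgroup.orderOf_mk z hzc]
      rcases (Nat.dvd_prime hp').mp h1 with h | h
      · exact absurd (orderOf_eq_one_iff.mp h) hz
      · exact h.ge
  have hquot : Nat.card (R ⧸ center R) = p ^ 2 := by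
    have hlag := Subgroup.card_eq_card_quotient_mul_card_subgroup (center R)
    rw [hcard, hZc] at hlag
    exact (Nat.eq_of_mul_eq_mul_right hp'.pos (by rw [← hlag]; ring))
  have hcom : ∀ a b : R ⧸ center R, a * b = b * a :=
    (IsPGroup.commGroupOfCardEqPrimeSq hquot).mul_comm
  refine count hR hE (center R) (z := z) ?_ (fun f hf => hzp ▸ fix_zpowers hf) ?_ he hez he1
  · intro h
    rw [h, Subgroup.card_top, hcard] at hZc
    have h2 : p ^ 3 = p ^ 1 := by rw [hZc, pow_one]
    have := Nat.pow_right_injective hp'.two_le h2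
    omega
  · intro f hfE hfz x hx hfx
    have hfc : ∀ y ∈ center R, f y = y := hzp ▸ fix_zpowers hfz
    set K : Subgroup R := centralizer {x} with hK
    have hKtop : K ≠ ⊤ := by
      intro h
      apply hx
      rw [mem_center_iff]
      intro g
      have : g ∈ K := by rw [h]; trivial
      rw [hK, mem_centralizer_singleton_iff] at this
      exact this
    have hKc : Nat.card K ∣ p ^ 2 := card_le_of_ne_top hcard K hKtop
    have hxK : x ∈ K := by rw [hK, mem_centralizer_singleton_iff]
    have hle : center R ≤ fixed f ⊓ K :=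
      le_inf (fun y hy => hfc y hy) (Subgroup.center_le_centralizer _)
    have hne : center R ≠ fixed f ⊓ K := by
      intro h
      apply hx
      rw [h]
      exact ⟨hfx, hxK⟩
    have h1 := dvd_card_of_lt hcard _ _ hle hne (i := 1) (by rw [hZc, pow_one])
    have hKf : fixed f ⊓ K = K := by
      apply Subgroup.eq_of_le_of_card_ge inf_le_right
      exact Nat.le_of_dvd Nat.card_pos (hKc.trans h1)
    have hKf' : ∀ y ∈ K, f y = y := by
      intro y hy
      rw [← hKf] at hy
      exact hy.1
    ext y
    rw [MulAut.one_apply]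
    have hcyc : x * y * x⁻¹ * y⁻¹ ∈ center R := by
      rw [← QuotientGroup.eq_one_iff]
      show (((x * y * x⁻¹ * y⁻¹ : R)) : R ⧸ center R) = 1
      rw [QuotientGroup.mk_mul, QuotientGroup.mk_mul, QuotientGroup.mk_mul,
        hcom ((x : R) : R ⧸ center R) (y : R)]
      simp [QuotientGroup.mk_inv]
    have h5 := hfc _ hcyc
    rw [map_mul, map_mul, map_mul, map_inv, map_inv, hfx] at h5
    -- `x * f y * x⁻¹ * (f y)⁻¹ = x * y * x⁻¹ * y⁻¹`
    have h6 : y⁻¹ * f y ∈ K := by
      rw [hK, mem_centralizer_singleton_iff]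
      have h7 : f y * x⁻¹ * (f y)⁻¹ = y * x⁻¹ * y⁻¹ := by
        have := congrArg (fun t => x⁻¹ * t) h5
        simpa only [mul_assoc, inv_mul_cancel_left] using this
      have h8 : (y⁻¹ * f y) * x⁻¹ = x⁻¹ * (y⁻¹ * f y) := by
        have h9 : f y * x⁻¹ = y * x⁻¹ * y⁻¹ * f y := by rw [← h7]; group
        calc (y⁻¹ * f y) * x⁻¹ = y⁻¹ * (f y * x⁻¹) := by group
          _ = y⁻¹ * (y * x⁻¹ * y⁻¹ * f y) := by rw [h9]
          _ = x⁻¹ * (y⁻¹ * f y) := by group
      have h10 := congrArg (fun t => x * t * x) h8
      simp only [mul_assoc, inv_mul_cancel, mul_one, mul_inv_cancel_left] at h10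
      rw [mul_assoc]
      exact h10.symm
    have h11 := eq_one_of_fix_mul hR f (not_dvd_orderOf hE hfE) (x := y) (hKf' _ h6) (by group)
    rw [inv_mul_eq_one] at h11
    exact h11.symm

theorem result : GoalPP.{u} := by
  intro p hp R _ _ A hR h
  rcases h with h | h | ⟨h, hna⟩
  · intro E hE _ _ z _ hz e he hez he1
    exact absurd (cyclic_case hR h (not_dvd_orderOf hE he) hz hez) he1
  · exact sq_case hR h A
  · exact cube_case hR h hna A

end

end Cfsg.Agent.H245.TI
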